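import Mathlib.NumberTheory.NumberField.CanonicalEmbedding.ConvexBody
import Mathlib.NumberTheory.NumberField.Completion.InfinitePlace
import Mathlib.NumberTheory.NumberField.InfiniteAdeleRing
import Mathlib.RingTheory.DedekindDomain.FiniteAdeleRing
import Mathlib.RingTheory.Ideal.Norm.AbsNorm

/-!
# Strong approximation for the additive group of a number field, off one finite place
-/

noncomputable section

open NumberField IsDedekindDomain IsDedekindDomain.HeightOneSpectrum
open scoped nonZeroDivisors NNReal ENNReal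

universe u

namespace Groth.Agent.StrongApprox

variable {k : Type u} [Field k] [NumberField k]

local notation "Plc" => HeightOneSpectrum (NumberField.RingOfIntegers k)

/-- An element of an open subset of a completion has a ball around it inside the subset. -/
theorem exists_ball (v : Plc) {U : Set (v.adicCompletion k)} (hU : IsOpen U) (hne : U.Nonempty) :
    ∃ (y : k) (N : ℕ), ∀ z : k, v.valuation k (z - y) ≤ WithZero.exp (-(N : ℤ)) →
      algebraMap k (v.adicCompletion k) z ∈ U := by
  obtain ⟨y, hy⟩ := (HeightOneSpectrum.denseRange_algebraMap (K := k) v).exists_mem_open hU hne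
  obtain ⟨γ, hγ⟩ := Valued.mem_nhds.1 (hU.mem_nhds hy)
  obtain ⟨n, hn⟩ : ∃ n : ℕ, ∀ z : k, v.valuation k (z - y) ≤ WithZero.exp (-(n : ℤ)) →
      Valued.v.restrict (algebraMap k (v.adicCompletion k) z - algebraMap k _ y) < γ.1 := by
    obtain ⟨g, hg⟩ : ∃ g : WithZero (Multiplicative ℤ), g ≠ 0 ∧ ∀ z : v.adicCompletion k,
        Valued.v z < g → Valued.v.restrict z < γ.1 := by
      refine ⟨MonoidWithZeroHom.ValueGroup₀.embedding γ.1, by simp, fun z hz => ?_⟩
      rwa [← MonoidWithZeroHom.ValueGroup₀.embedding_strictMono.lt_iff_lt,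
        Valuation.embedding_restrict]
    refine ⟨(1 - WithZero.log g).toNat, fun z hz => hg.2 _ ?_⟩
    rw [← map_sub]
    rw [show (algebraMap k (v.adicCompletion k)) (z - y) = ((z - y : k) : v.adicCompletion k)
      from rfl, adicCompletion.valued_coe]
    refine lt_of_le_of_lt hz ?_
    conv_rhs => rw [← WithZero.exp_log hg.1]
    rw [WithZero.exp_lt_exp]
    omega
  exact ⟨y, n, fun z hz => hγ (hn z hz)⟩

/-- Finite part: prescribed elements up to prescribed precision, integral elsewhere. -/
theorem exists_finite_approx (F : Finset Plc) (y : Plc → k) (N : Plc → ℕ) :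
    ∃ x : k, (∀ v ∈ F, v.valuation k (x - y v) ≤ WithZero.exp (-(N v : ℤ))) ∧
      ∀ v ∉ F, v.valuation k x ≤ 1 := by
  classical
  obtain ⟨d, hd⟩ := IsLocalization.exist_integer_multiples (NumberField.RingOfIntegers k)⁰ F y
  have hd0 : (d : NumberField.RingOfIntegers k) ≠ 0 := nonZeroDivisors.ne_zero d.2
  choose a ha using hd
  have hfin : {v : Plc | v.asIdeal ∣ Ideal.span {(d : NumberField.RingOfIntegers k)}}.Finite :=
    Ideal.finite_factors (by simpa using hd0)
  let G := F ∪ hfin.toFinset
  let e : Plc → ℕ := fun v => Int.toNat (-WithZero.log (v.intValuation (d : NumberField.RingOfIntegers k)))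
  have he : ∀ v : Plc, v.intValuation (d : NumberField.RingOfIntegers k) =
      WithZero.exp (-(e v : ℤ)) := fun v => by
    have h0 : v.intValuation (d : NumberField.RingOfIntegers k) ≠ 0 := intValuation_ne_zero v _ hd0
    have h1 : WithZero.log (v.intValuation (d : NumberField.RingOfIntegers k)) ≤ 0 := by
      rw [← WithZero.log_one, WithZero.log_le_log h0 one_ne_zero]
      exact intValuation_le_one _ _
    rw [Int.toNat_of_nonneg (by omega), neg_neg, WithZero.exp_log h0]
  let t : Plc → NumberField.RingOfIntegers k := fun v =>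
    if h : v ∈ F then a v h else 0
  obtain ⟨b, hb⟩ := IsDedekindDomain.exists_forall_sub_mem_ideal (s := G)
    (fun v : Plc => v.asIdeal) (fun v => N v + e v) (fun v _ => v.prime)
    (fun v _ w _ hne h => hne (HeightOneSpectrum.ext h)) (fun v => t v.1)
  have hbv : ∀ v ∈ G, v.valuation k (algebraMap _ k (b - t v)) ≤
      WithZero.exp (-((N v + e v : ℕ) : ℤ)) := fun v hv => by
    rw [valuation_of_algebraMap, intValuation_le_pow_iff_mem]
    exact hb v hv
  have hdk : algebraMap (NumberField.RingOfIntegers k) k d ≠ 0 :=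
    (map_ne_zero_iff _ (IsFractionRing.injective (NumberField.RingOfIntegers k) k)).2 hd0
  refine ⟨algebraMap _ k b / algebraMap _ k (d : NumberField.RingOfIntegers k), fun v hv => ?_,
    fun v hv => ?_⟩
  · have h := hbv v (Finset.mem_union_left _ hv)
    simp only [t, hv, dif_pos, map_sub, ha v hv, Algebra.smul_def] at h
    rw [show algebraMap (NumberField.RingOfIntegers k) k b / algebraMap _ k
      (d : NumberField.RingOfIntegers k) - y v = (algebraMap (NumberField.RingOfIntegers k) k b -
        algebraMap _ k (d : NumberField.RingOfIntegers k) * y v) / algebraMap _ k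
      (d : NumberField.RingOfIntegers k) by field_simp, map_div₀, valuation_of_algebraMap, he,
      div_le_iff₀ (WithZero.exp_pos), ← WithZero.exp_add]
    refine h.trans (le_of_eq ?_)
    congr 1
    push_cast
    ring
  · rw [map_div₀, valuation_of_algebraMap (r := (d : NumberField.RingOfIntegers k)), he,
      div_le_iff₀ (WithZero.exp_pos), one_mul]
    by_cases hvG : v ∈ G
    · have h := hbv v hvG
      simp only [t, hv, dif_neg, not_false_iff, sub_zero] at h
      refine h.trans ?_
      rw [WithZero.exp_le_exp]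
      push_cast
      omega
    · have h1 : ¬ v.asIdeal ∣ Ideal.span {(d : NumberField.RingOfIntegers k)} := fun h =>
        hvG (Finset.mem_union_right _ (hfin.mem_toFinset.2 h))
      have h2 : v.intValuation (d : NumberField.RingOfIntegers k) = 1 := by
        refine le_antisymm (intValuation_le_one _ _) (not_lt.1 fun h => h1 ?_)
        exact (intValuation_lt_one_iff_dvd v _).1 h
      rw [← he, h2]
      exact valuation_le_one v b

/-- A small nonzero element in a fractional ideal with one inverted prime. -/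
theorem exists_small (v₀ : Plc) (J : Ideal (NumberField.RingOfIntegers k)) (hJ : J ≠ ⊥)
    (η : ℝ) (hη : 0 < η) :
    ∃ β : k, β ≠ 0 ∧ (∀ w : InfinitePlace k, w β < η) ∧
      ∀ v : Plc, v ≠ v₀ → ∀ n : ℕ, J ≤ v.asIdeal ^ n →
        v.valuation k β ≤ WithZero.exp (-(n : ℤ)) := by
  classical
  let f : InfinitePlace k → ℝ≥0 := fun _ => ⟨η, hη.le⟩
  set V := MeasureTheory.volume (mixedEmbedding.convexBodyLT k f) with hV
  have hVpos : 0 < V := by
    rw [hV, mixedEmbedding.convexBodyLT_volume]
    refine ENNReal.coe_pos.2 ?_ |> fun h => by exact_mod_cast h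
    refine mul_pos ((mixedEmbedding.convexBodyLTFactor_ne_zero k).bot_lt) ?_
    exact Finset.prod_pos fun w _ => pow_pos (show (0 : ℝ≥0) < f w from hη) _
  set C := MeasureTheory.volume (ZSpan.fundamentalDomain (mixedEmbedding.latticeBasis k)) *
    (2 : ℝ≥0∞) ^ Module.finrank ℝ (mixedEmbedding.mixedSpace k) with hC
  have hCtop : C ≠ ⊤ := ENNReal.mul_ne_top
    (ZSpan.fundamentalDomain_isBounded _).measure_lt_top.ne
    (ENNReal.pow_ne_top ENNReal.ofNat_ne_top)
  set q : ℕ := Ideal.absNorm v₀.asIdeal with hq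
  have hq1 : 1 < q := by
    have h0 : q ≠ 0 := fun h => v₀.ne_bot (Ideal.absNorm_eq_zero_iff.1 h)
    have h1 : q ≠ 1 := fun h => v₀.isPrime.ne_top (Ideal.absNorm_eq_one_iff.1 h)
    omega
  have hlim : Filter.Tendsto (fun n : ℕ => ENNReal.ofReal ((Ideal.absNorm J : ℝ) * ((q : ℝ)⁻¹) ^ n)
      * C) Filter.atTop (nhds 0) := by
    have h1 : Filter.Tendsto (fun n : ℕ => (Ideal.absNorm J : ℝ) * ((q : ℝ)⁻¹) ^ n) Filter.atTop
        (nhds 0) := by
      simpa using (tendsto_pow_atTop_nhds_zero_of_lt_one (by positivity)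
        (inv_lt_one_of_one_lt₀ (by exact_mod_cast hq1))).const_mul (Ideal.absNorm J : ℝ)
    simpa using ENNReal.Tendsto.mul_const (ENNReal.tendsto_ofReal h1) (Or.inr hCtop)
  obtain ⟨n, hn⟩ := (hlim.eventually_lt_const hVpos).exists
  have hI0 : (J : FractionalIdeal (NumberField.RingOfIntegers k)⁰ k) *
      ((v₀.asIdeal ^ n : Ideal _) : FractionalIdeal (NumberField.RingOfIntegers k)⁰ k)⁻¹ ≠ 0 :=
    mul_ne_zero (by simpa using hJ) (inv_ne_zero (by simpa using pow_ne_zero n v₀.ne_bot))
  let I : (FractionalIdeal (NumberField.RingOfIntegers k)⁰ k)ˣ := Units.mk0 _ hI0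
  have hlt : mixedEmbedding.minkowskiBound k I <
      MeasureTheory.volume (mixedEmbedding.convexBodyLT k f) := by
    rw [mixedEmbedding.minkowskiBound,
      mixedEmbedding.volume_fundamentalDomain_fractionalIdealLatticeBasis, mul_assoc, ← hC]
    convert hn using 4
    simp [I, map_mul, map_inv₀, map_pow, FractionalIdeal.coeIdeal_absNorm, hq, inv_pow]
  obtain ⟨β, hβI, hβ0, hβw⟩ := mixedEmbedding.exists_ne_zero_mem_ideal_lt k I hlt
  refine ⟨β, hβ0, hβw, fun v hv m hm => ?_⟩
  obtain ⟨π, hπ, hπv⟩ : ∃ π ∈ v₀.asIdeal ^ n, π ∉ v.asIdeal := by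
    by_contra h
    push Not at h
    exact hv (HeightOneSpectrum.ext ((v₀.isMaximal.eq_of_le v.isPrime.ne_top
      (Ideal.IsPrime.le_of_pow_le (hP := v.isPrime) h)).symm))
  have hmem : β * algebraMap _ k π ∈
      (J : FractionalIdeal (NumberField.RingOfIntegers k)⁰ k) := by
    have h1 := FractionalIdeal.mul_mem_mul hβI
      (FractionalIdeal.mem_coeIdeal_of_mem (NumberField.RingOfIntegers k)⁰ (P := k) hπ)
    simp only [I, Units.val_mk0] at h1
    rwa [mul_assoc, inv_mul_cancel₀ (by simpa using pow_ne_zero n v₀.ne_bot), mul_one] at h1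
  obtain ⟨j, hj, hjeq⟩ := (FractionalIdeal.mem_coeIdeal _).1 hmem
  have h2 : v.valuation k (β * algebraMap _ k π) ≤ WithZero.exp (-(m : ℤ)) := by
    rw [← hjeq, valuation_of_algebraMap, intValuation_le_pow_iff_mem]
    exact hm hj
  rwa [map_mul, (valuation_eq_one_iff_notMem (K := k) v).2 hπv, mul_one] at h2

/-- Rounding to a multiple. -/
theorem exists_round : ∃ C : ℝ, ∀ z β : k, β ≠ 0 → ∃ γ : NumberField.RingOfIntegers k,
    ∀ w : InfinitePlace k, w (z - algebraMap _ k γ * β) ≤ C * w β := by
  classical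
  let b := NumberField.integralBasis k
  let c := NumberField.RingOfIntegers.basis k
  refine ⟨∑ w : InfinitePlace k, ∑ i, w (b i), fun z β hβ => ?_⟩
  refine ⟨∑ i, ⌊b.repr (z / β) i⌋ • c i, fun w => ?_⟩
  have h1 : z / β - algebraMap _ k (∑ i, ⌊b.repr (z / β) i⌋ • c i) =
      ∑ i, (Int.fract (b.repr (z / β) i)) • b i := by
    conv_lhs => arg 1; rw [← b.sum_repr (z / β)]
    rw [map_sum, ← Finset.sum_sub_distrib]
    refine Finset.sum_congr rfl fun i _ => ?_
    rw [map_zsmul, ← NumberField.integralBasis_apply, Int.fract, sub_smul, ← Int.cast_smul_eq_zsmul ℚ]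
  have h2 : z - algebraMap _ k (∑ i, ⌊b.repr (z / β) i⌋ • c i) * β =
      (z / β - algebraMap _ k (∑ i, ⌊b.repr (z / β) i⌋ • c i)) * β := by
    field_simp
  rw [h2, map_mul, h1]
  refine mul_le_mul_of_nonneg_right ?_ (apply_nonneg _ _)
  refine (w.1.sum_le _ _).trans ?_
  refine le_trans (Finset.sum_le_sum fun i _ => ?_)
    (Finset.single_le_sum (f := fun w : InfinitePlace k => ∑ i, w (b i))
      (fun w _ => Finset.sum_nonneg fun i _ => apply_nonneg _ _) (Finset.mem_univ w))
  rw [Algebra.smul_def]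
  change w (algebraMap ℚ k _ * b i) ≤ _
  rw [map_mul]
  refine mul_le_of_le_one_left (apply_nonneg _ _) ?_
  rw [eq_ratCast, ← w.norm_embedding_eq, map_ratCast, Complex.norm_ratCast]
  rw [abs_of_nonneg (by exact_mod_cast Int.fract_nonneg _)]
  exact_mod_cast (Int.fract_lt_one _).le

/-- Strong approximation off `v₀`. -/
theorem strong_approx (v₀ : Plc) (F : Finset Plc) (hv₀ : v₀ ∉ F)
    (U : (v : Plc) → Set (v.adicCompletion k)) (hU : ∀ v ∈ F, IsOpen (U v) ∧ (U v).Nonempty)
    (V : Set ((w : InfinitePlace k) → w.Completion)) (hV : IsOpen V) (hVne : V.Nonempty) :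
    ∃ x : k, (∀ v ∈ F, algebraMap k (v.adicCompletion k) x ∈ U v) ∧
      (fun w : InfinitePlace k => algebraMap k w.Completion x) ∈ V ∧
      ∀ v : Plc, v ∉ F → v ≠ v₀ → v.valuation k x ≤ 1 := by
  classical
  choose! y N hyN using fun v hv => exists_ball v (hU v hv).1 (hU v hv).2
  obtain ⟨x₀, hx₀F, hx₀⟩ := exists_finite_approx F y N
  obtain ⟨z, hz⟩ : ∃ z : k, (fun w : InfinitePlace k => algebraMap k w.Completion z) ∈ V :=
    (InfiniteAdeleRing.denseRange_algebraMap k).exists_mem_open hV hVne
  obtain ⟨r, hr, hball⟩ := Metric.isOpen_iff.1 hV _ hz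
  obtain ⟨C, hC⟩ := exists_round (k := k)
  let J : Ideal (NumberField.RingOfIntegers k) := ∏ v ∈ F, v.asIdeal ^ N v
  have hJ : J ≠ ⊥ := by
    simp only [J, ← Submodule.zero_eq_bot, Finset.prod_ne_zero_iff]
    exact fun v _ => pow_ne_zero _ v.ne_bot
  obtain ⟨β, hβ0, hβw, hβv⟩ := exists_small v₀ J hJ (r / (|C| + 1)) (by positivity)
  obtain ⟨γ, hγ⟩ := hC (z - x₀) β hβ0
  have hint : ∀ v : Plc, v ≠ v₀ → ∀ n : ℕ, J ≤ v.asIdeal ^ n →
      v.valuation k (algebraMap _ k γ * β) ≤ WithZero.exp (-(n : ℤ)) := fun v hv n hn => by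
    rw [map_mul]
    exact (mul_le_mul' (valuation_le_one v γ) (hβv v hv n hn)).trans (one_mul _).le
  refine ⟨x₀ + algebraMap _ k γ * β, fun v hv => hyN v hv _ ?_, hball ?_, fun v hv hv0 => ?_⟩
  · rw [add_sub_right_comm]
    refine Valuation.map_add_le _ (hx₀F v hv) (hint v (fun h => hv₀ (h ▸ hv)) (N v) ?_)
    exact Ideal.le_of_dvd (Finset.dvd_prod_of_mem (fun v : Plc => v.asIdeal ^ N v) hv)
  · rw [Metric.mem_ball, dist_pi_lt_iff hr]
    intro w
    rw [dist_eq_norm]
    change ‖algebraMap k w.Completion _ - algebraMap k w.Completion z‖ < r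
    rw [← map_sub, InfinitePlace.Completion.algebraMap_apply,
      InfinitePlace.Completion.norm_coe]
    change w (x₀ + algebraMap _ k γ * β - z) < r
    rw [show x₀ + algebraMap _ k γ * β - z = -(z - x₀ - algebraMap _ k γ * β) by ring,
      ← w.norm_embedding_eq, map_neg, norm_neg, w.norm_embedding_eq]
    calc w (z - x₀ - algebraMap _ k γ * β) ≤ C * w β := hγ w
      _ ≤ (|C| + 1) * w β := by
          refine mul_le_mul_of_nonneg_right ?_ (apply_nonneg _ _)
          linarith [le_abs_self C]
      _ < (|C| + 1) * (r / (|C| + 1)) := by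
          have := hβw w
          have : (0 : ℝ) < |C| + 1 := by positivity
          gcongr
      _ = r := by field_simp
  · refine Valuation.map_add_le _ (hx₀ v hv) ((hint v hv0 0 ?_).trans (by simp))
    simp

/-- The solutions in strong approximation are infinite in number. -/
theorem strong_approx_infinite (v₀ : Plc) (F : Finset Plc) (hv₀ : v₀ ∉ F)
    (U : (v : Plc) → Set (v.adicCompletion k)) (hU : ∀ v ∈ F, IsOpen (U v) ∧ (U v).Nonempty)
    (V : Set ((w : InfinitePlace k) → w.Completion)) (hV : IsOpen V) (hVne : V.Nonempty) :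
    {x : k | (∀ v ∈ F, algebraMap k (v.adicCompletion k) x ∈ U v) ∧
      (fun w : InfinitePlace k => algebraMap k w.Completion x) ∈ V ∧
      ∀ v : Plc, v ∉ F → v ≠ v₀ → v.valuation k x ≤ 1}.Infinite := by
  classical
  intro hS
  let e : k → ((w : InfinitePlace k) → w.Completion) := fun x w => algebraMap k w.Completion x
  have he : Function.Injective e := fun a b h => by
    obtain ⟨w⟩ := (inferInstance : Nonempty (InfinitePlace k))
    exact (algebraMap k w.Completion).injective (congrFun h w)
  have hV' : IsOpen (V \ e '' (hS.toFinset : Set k)) :=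
    hV.sdiff ((hS.toFinset.finite_toSet.image e).isClosed)
  have hne' : (V \ e '' (hS.toFinset : Set k)).Nonempty := by
    obtain ⟨z, hz⟩ : ∃ z : k, e z ∈ V :=
      (InfiniteAdeleRing.denseRange_algebraMap k).exists_mem_open hV hVne
    obtain ⟨r, hr, hball⟩ := Metric.isOpen_iff.1 hV _ hz
    obtain ⟨M, hM⟩ := exists_nat_gt r⁻¹
    let g : ℕ → k := fun n => z + ((M + n + 1 : ℕ) : k)⁻¹
    have hg : ∀ n, e (g n) ∈ V := fun n => hball (by
      rw [Metric.mem_ball, dist_pi_lt_iff hr]
      intro w
      change dist (algebraMap k w.Completion (g n)) (algebraMap k w.Completion z) < r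
      rw [dist_eq_norm, ← map_sub,
        InfinitePlace.Completion.algebraMap_apply, InfinitePlace.Completion.norm_coe]
      change w (z + ((M + n + 1 : ℕ) : k)⁻¹ - z) < r
      rw [add_sub_cancel_left, map_inv₀, ← w.norm_embedding_eq, map_natCast, Complex.norm_natCast]
      rw [inv_lt_comm₀ (by positivity) hr]
      push_cast
      linarith)
    have hginj : Function.Injective g := fun a b h => by
      simp only [g, add_right_inj, inv_inj, Nat.cast_inj] at h
      omega
    obtain ⟨n, hn⟩ := Infinite.exists_notMem_finset (hS.toFinset.preimage g hginj.injOn)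
    refine ⟨e (g n), hg n, ?_⟩
    rintro ⟨x, hx, hxe⟩
    exact hn (Finset.mem_preimage.2 (he hxe ▸ hx))
  obtain ⟨x, hx1, ⟨hx2, hx3⟩, hx4⟩ := strong_approx v₀ F hv₀ U hU _ hV' hne'
  exact hx3 ⟨x, hS.mem_toFinset.2 ⟨hx1, hx2, hx4⟩, rfl⟩

end Groth.Agent.StrongApprox
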