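import Groth.Agent.StrongApprox.AffineCodim

/-!
# Strong approximation for complements of codimension two, general coordinates
-/

noncomputable section

open NumberField IsDedekindDomain IsDedekindDomain.HeightOneSpectrum MvPolynomial

universe u

namespace Groth.Agent.StrongApprox

variable {k : Type u} [Field k] [NumberField k]

local notation "OK" => NumberField.RingOfIntegers k
local notation "Plc" => HeightOneSpectrum (NumberField.RingOfIntegers k)

theorem continuous_shInv {A : Type*} [CommRing A] [TopologicalSpace A] [IsTopologicalRing A]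
    {n : ℕ} (r : Fin (n + 1) → ℕ) : Continuous (shInv (R := A) r) := by
  refine continuous_pi fun i => ?_
  simp only [shInv]
  split_ifs
  · exact continuous_apply 0
  · exact (continuous_apply i).sub ((continuous_apply 0).pow _)

theorem continuous_sh {A : Type*} [CommRing A] [TopologicalSpace A] [IsTopologicalRing A]
    {n : ℕ} (r : Fin (n + 1) → ℕ) : Continuous (sh (R := A) r) := by
  refine continuous_pi fun i => ?_
  simp only [sh]
  split_ifs
  · exact continuous_apply 0
  · exact (continuous_apply i).add ((continuous_apply 0).pow _)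

theorem sh_map {A B : Type*} [CommRing A] [CommRing B] (φ : A →+* B) {n : ℕ}
    (r : Fin (n + 1) → ℕ) (P : Fin (n + 1) → A) :
    (fun i => φ (sh r P i)) = sh r fun i => φ (P i) := by
  funext i
  simp only [sh]
  split_ifs <;> simp

/-- Strong approximation for complements of codimension two in affine space. -/
theorem exists_point {n m : ℕ} (f : Fin m → MvPolynomial (Fin (n + 1)) OK)
    (hcodim : ringKrullDim (MvPolynomial (Fin (n + 1)) k ⧸
      Ideal.span (Set.range fun j => map (algebraMap OK k) (f j))) + 2 ≤ ((n + 1 : ℕ) : WithBot ℕ∞))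
    (v₀ : Plc) (Sf : Finset Plc) (hv₀ : v₀ ∈ Sf)
    (Nf : (v : Plc) → Set (Fin (n + 1) → v.adicCompletion k))
    (hNf : ∀ v ∈ Sf, v ≠ v₀ → IsOpen (Nf v) ∧ (Nf v).Nonempty)
    (V : Set ((w : InfinitePlace k) → Fin (n + 1) → w.Completion)) (hV : IsOpen V)
    (hVne : V.Nonempty)
    (T : Finset Plc) (hT : Disjoint T Sf)
    (W : (v : Plc) → Set (Fin (n + 1) → v.adicCompletion k))
    (hW : ∀ v ∈ T, IsOpen (W v) ∧ (W v ∩ good v f).Nonempty)
    (hne : ∀ v : Plc, v ∉ Sf → (good v f).Nonempty) :
    ∃ P : Fin (n + 1) → k,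
      (∀ v : Plc, v ∉ Sf → (∀ i, v.valuation k (P i) ≤ 1) ∧
        ∃ j, v.valuation k (aeval P (map (algebraMap OK k) (f j))) = 1) ∧
      (∀ v ∈ Sf, v ≠ v₀ → (fun i => algebraMap k (v.adicCompletion k) (P i)) ∈ Nf v) ∧
      (fun (w : InfinitePlace k) i => algebraMap k w.Completion (P i)) ∈ V ∧
      (∀ v ∈ T, (fun i => algebraMap k (v.adicCompletion k) (P i)) ∈ W v) := by
  classical
  set I := Ideal.span (Set.range fun j => map (algebraMap OK k) (f j)) with hI
  obtain ⟨g₀, hg₀I, hg₀⟩ : ∃ g₀ ∈ I, g₀ ≠ 0 := by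
    refine Submodule.exists_mem_ne_zero_of_ne_bot fun h => ?_
    rw [h, ringKrullDim_eq_of_ringEquiv (RingEquiv.quotientBot _),
      MvPolynomial.ringKrullDim_of_isNoetherianRing, ringKrullDim_eq_zero_of_field, zero_add,
      Nat.card_eq_fintype_card, Fintype.card_fin,
      show (2 : WithBot ℕ∞) = ((2 : ℕ) : WithBot ℕ∞) from rfl, ← Nat.cast_add, Nat.cast_le] at hcodim
    omega
  obtain ⟨r, c, hc, hlead⟩ := exists_shift g₀ hg₀
  let f' : Fin m → MvPolynomial (Fin (n + 1)) OK := fun j => shAlg r (f j)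
  have hspan : Ideal.span (Set.range fun j => map (algebraMap OK k) (f' j)) =
      I.map (shAlg (R := k) r) := by
    rw [hI, Ideal.map_span, ← Set.range_comp]
    simp only [f', map_shAlg]
    rfl
  have hcodim' : ringKrullDim (MvPolynomial (Fin (n + 1)) k ⧸
      Ideal.span (Set.range fun j => map (algebraMap OK k) (f' j))) + 2 ≤
      ((n + 1 : ℕ) : WithBot ℕ∞) := by
    rw [hspan, ← ringKrullDim_eq_of_ringEquiv
      (Ideal.quotientEquiv I (I.map (shAlg (R := k) r)) (shAlg (R := k) r).toRingEquiv rfl)]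
    exact hcodim
  have hg : shAlg r g₀ ∈ Ideal.span (Set.range fun j => map (algebraMap OK k) (f' j)) := by
    rw [hspan]
    exact Ideal.mem_map_of_mem _ hg₀I
  obtain ⟨D, hD0, hD⟩ := exists_elim _ hcodim' _ hg c hc hlead
  have hint : ∀ (v : Plc) (P : Fin (n + 1) → v.adicCompletion k),
      (∀ i, P i ∈ v.adicCompletionIntegers k) →
      (∀ i, sh r P i ∈ v.adicCompletionIntegers k) ∧
        ∀ i, shInv r P i ∈ v.adicCompletionIntegers k := fun v P hP =>
    ⟨fun i => by
      simp only [sh]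
      split_ifs
      · exact hP 0
      · exact add_mem (hP i) (pow_mem (hP 0) _),
    fun i => by
      simp only [shInv]
      split_ifs
      · exact hP 0
      · exact sub_mem (hP i) (pow_mem (hP 0) _)⟩
  have hgood : ∀ (v : Plc) (Q : Fin (n + 1) → v.adicCompletion k), Q ∈ good v f →
      shInv r Q ∈ good v f' := fun v Q ⟨h1, j, hj⟩ => by
    refine ⟨(hint v Q h1).2, j, ?_⟩
    simpa only [f', map_shAlg, aeval_shAlg, sh_shInv] using hj
  obtain ⟨P, hP1, hP2, hP3, hP4⟩ := exists_point_aux f' _ hg c hc hlead D hD0 hD v₀ Sf hv₀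
    (fun v => sh r ⁻¹' Nf v)
    (fun v hv h0 => ⟨(hNf v hv h0).1.preimage (continuous_sh r),
      let ⟨x, hx⟩ := (hNf v hv h0).2
      ⟨shInv r x, by simpa only [Set.mem_preimage, sh_shInv] using hx⟩⟩)
    ((fun Z (w : InfinitePlace k) => sh r (Z w)) ⁻¹' V)
    (hV.preimage (continuous_pi fun w => (continuous_sh r).comp (continuous_apply w)))
    (let ⟨Z, hZ⟩ := hVne
     ⟨fun w => shInv r (Z w), by simpa only [Set.mem_preimage, sh_shInv] using hZ⟩)
    T hT (fun v => sh r ⁻¹' W v)
    (fun v hv => ⟨(hW v hv).1.preimage (continuous_sh r),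
      let ⟨Q, hQ1, hQ2⟩ := (hW v hv).2
      ⟨shInv r Q, by simpa only [Set.mem_preimage, sh_shInv] using hQ1, hgood v Q hQ2⟩⟩)
    (fun v hv => let ⟨Q, hQ⟩ := hne v hv; ⟨shInv r Q, hgood v Q hQ⟩)
  refine ⟨sh r P, fun v hv => ⟨fun i => ?_, ?_⟩, fun v hv h0 => ?_, ?_, fun v hv => ?_⟩
  · simp only [sh]
    split_ifs
    · exact (hP1 v hv).1 0
    · refine Valuation.map_add_le _ ((hP1 v hv).1 i) ?_
      rw [map_pow]
      exact pow_le_one' ((hP1 v hv).1 0) _
  · obtain ⟨j, hj⟩ := (hP1 v hv).2
    exact ⟨j, by simpa only [f', map_shAlg, aeval_shAlg] using hj⟩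
  · rw [sh_map]
    exact hP2 v hv h0
  · rw [show (fun (w : InfinitePlace k) i => algebraMap k w.Completion (sh r P i)) =
      fun w => sh r (fun i => algebraMap k w.Completion (P i)) from funext fun w => sh_map _ r P]
    exact hP3
  · rw [sh_map]
    exact hP4 v hv

end Groth.Agent.StrongApprox
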