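import Mathlib.RingTheory.NoetherNormalization
import Mathlib.RingTheory.KrullDimension.Polynomial
import Mathlib.RingTheory.KrullDimension.Field
import Mathlib.RingTheory.Ideal.GoingUp

/-!
# A triangular change of variables making a polynomial monic in the first variable (Nagata),
and elimination of the first variable
-/

noncomputable section

open MvPolynomial

universe u

namespace Groth.Agent.StrongApprox

variable {R : Type u} [CommRing R] {n : ℕ}

/-- The substitution `X i ↦ X i + X 0 ^ r i` for `i ≠ 0`. -/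
def sh (r : Fin (n + 1) → ℕ) (P : Fin (n + 1) → R) : Fin (n + 1) → R :=
  fun i => if i = 0 then P 0 else P i + P 0 ^ r i

/-- The inverse substitution. -/
def shInv (r : Fin (n + 1) → ℕ) (P : Fin (n + 1) → R) : Fin (n + 1) → R :=
  fun i => if i = 0 then P 0 else P i - P 0 ^ r i

theorem sh_shInv (r : Fin (n + 1) → ℕ) (P : Fin (n + 1) → R) : sh r (shInv r P) = P := by
  funext i
  by_cases h : i = 0
  · subst h; simp [sh, shInv]
  · simp [sh, shInv, h]

theorem shInv_sh (r : Fin (n + 1) → ℕ) (P : Fin (n + 1) → R) : shInv r (sh r P) = P := by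
  funext i
  by_cases h : i = 0
  · subst h; simp [sh, shInv]
  · simp [sh, shInv, h]

/-- The change of variables on polynomials. -/
def shAlg (r : Fin (n + 1) → ℕ) : MvPolynomial (Fin (n + 1)) R ≃ₐ[R] MvPolynomial (Fin (n + 1)) R :=
  AlgEquiv.ofAlgHom (aeval (sh r X)) (aeval (shInv r X))
    (by
      apply algHom_ext
      intro i
      by_cases h : i = 0
      · subst h; simp [sh, shInv]
      · simp [sh, shInv, h])
    (by
      apply algHom_ext
      intro i
      by_cases h : i = 0
      · subst h; simp [sh, shInv]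
      · simp [sh, shInv, h])

theorem aeval_shAlg {A : Type*} [CommRing A] [Algebra R A] (r : Fin (n + 1) → ℕ)
    (p : MvPolynomial (Fin (n + 1)) R) (P : Fin (n + 1) → A) :
    aeval P (shAlg r p) = aeval (sh r P) p := by
  change ((aeval P).comp (aeval (sh r X))) p = _
  rw [comp_aeval]
  congr 1
  apply congrArg
  funext i
  by_cases h : i = 0
  · subst h; simp [sh]
  · simp [sh, h]

theorem map_shAlg {S : Type u} [CommRing S] (φ : R →+* S) (r : Fin (n + 1) → ℕ)
    (p : MvPolynomial (Fin (n + 1)) R) : map φ (shAlg r p) = shAlg r (map φ p) := by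
  suffices h : (map φ).comp (shAlg (R := R) r).toAlgHom.toRingHom =
      (shAlg (R := S) r).toAlgHom.toRingHom.comp (map φ) from RingHom.congr_fun h p
  apply MvPolynomial.ringHom_ext
  · intro a
    simp [shAlg]
  · intro i
    by_cases h : i = 0
    · subst h; simp [shAlg, sh]
    · simp [shAlg, sh, h]

variable {k : Type u} [Field k]

/-- Nagata's lemma: a nonzero polynomial becomes monic up to a constant after a shift. -/
theorem exists_shift (f : MvPolynomial (Fin (n + 1)) k) (hf : f ≠ 0) :
    ∃ (r : Fin (n + 1) → ℕ) (c : k), c ≠ 0 ∧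
      (finSuccEquiv k n (shAlg r f)).leadingCoeff = C c := by
  classical
  let up := 2 + f.totalDegree
  let r : Fin (n + 1) → ℕ := fun i => up ^ i.1
  let φ : (Fin (n + 1) →₀ ℕ) → Polynomial (MvPolynomial (Fin n) k) :=
    fun v => finSuccEquiv k n (shAlg r (monomial v (coeff v f)))
  have hφ : ∀ v, φ v = Polynomial.C (C (coeff v f)) * ∏ i,
      (finSuccEquiv k n (sh r X i)) ^ v i := fun v => by
    simp only [φ, shAlg, AlgEquiv.ofAlgHom_apply, monomial_eq, map_mul, aeval_C,
      Finsupp.prod_fintype v (fun a (e : ℕ) => (X a : MvPolynomial (Fin (n + 1)) k) ^ e)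
        (fun i => pow_zero _), map_prod, map_pow, aeval_X]
    congr 1
    simp [finSuccEquiv_apply]
  have hX : ∀ i, (finSuccEquiv k n (sh r X i)).Monic ∧
      (finSuccEquiv k n (sh r X i)).natDegree = r i := fun i => by
    rcases Fin.eq_zero_or_eq_succ i with rfl | ⟨j, rfl⟩
    · simp [sh, r, finSuccEquiv_X_zero, Polynomial.monic_X]
    · have hpos : 0 < r j.succ := by simp only [r, up]; positivity
      simp only [sh, Fin.succ_ne_zero, if_false, map_add, map_pow, finSuccEquiv_X_succ,
        finSuccEquiv_X_zero]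
      rw [add_comm]
      exact ⟨Polynomial.monic_X_pow_add_C _ hpos.ne', Polynomial.natDegree_X_pow_add_C⟩
  have hlc : ∀ v ∈ f.support, (φ v).leadingCoeff = C (coeff v f) ∧
      (φ v).natDegree = ∑ i, r i * v i := fun v hv => by
    have hm : (∏ i, (finSuccEquiv k n (sh r X i)) ^ v i).Monic :=
      Polynomial.monic_prod_of_monic _ _ fun i _ => (hX i).1.pow _
    have hne : (C (coeff v f) : MvPolynomial (Fin n) k) ≠ 0 := by
      rw [ne_eq, C_eq_zero]
      exact mem_support_iff.1 hv
    rw [hφ, Polynomial.leadingCoeff_mul_monic hm, Polynomial.leadingCoeff_C]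
    refine ⟨rfl, ?_⟩
    rw [Polynomial.natDegree_mul (Polynomial.C_ne_zero.2 hne) hm.ne_zero, Polynomial.natDegree_C,
      zero_add, Polynomial.natDegree_prod_of_monic _ _ fun i _ => (hX i).1.pow _]
    refine Finset.sum_congr rfl fun i _ => ?_
    rw [(hX i).1.natDegree_pow, (hX i).2, mul_comm]
  have hinj : Set.InjOn (fun v : Fin (n + 1) →₀ ℕ => ∑ i, r i * v i) f.support := by
    intro v hv w hw h
    have hlt : ∀ u ∈ f.support, ∀ i, u i < up := fun u hu i =>
      lt_of_le_of_lt ((monomial_le_degreeOf i hu).trans (degreeOf_le_totalDegree f i))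
        (by simp only [up]; omega)
    have h' : Nat.ofDigits up (List.ofFn v) = Nat.ofDigits up (List.ofFn w) := by
      simpa only [Nat.ofDigits_eq_sum_mapIdx, List.mapIdx_eq_ofFn, List.get_ofFn,
        List.length_ofFn, Fin.val_cast, mul_comm, List.sum_ofFn, r] using! h
    refine Finsupp.ext (congrFun (List.ofFn_inj.mp ?_))
    refine Nat.ofDigits_inj_of_len_eq (b := up) (by simp only [up]; omega) (by simp) ?_ ?_ h'
    · intro l hl
      obtain ⟨i, rfl⟩ := List.mem_ofFn.1 hl
      exact hlt v hv i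
    · intro l hl
      obtain ⟨i, rfl⟩ := List.mem_ofFn.1 hl
      exact hlt w hw i
  obtain ⟨v, hv, hmax⟩ := Finset.exists_max_image f.support
    (fun v => ∑ i, r i * v i) (support_nonempty.mpr hf)
  refine ⟨r, coeff v f, mem_support_iff.1 hv, ?_⟩
  have hsum : finSuccEquiv k n (shAlg r f) = ∑ w ∈ f.support, φ w := by
    conv_lhs => rw [f.as_sum]
    simp only [map_sum, φ]
  have hne : φ v ≠ 0 := fun h => by
    have := (hlc v hv).1
    rw [h, Polynomial.leadingCoeff_zero, eq_comm, C_eq_zero] at this
    exact mem_support_iff.1 hv this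
  rw [hsum, ← Finset.add_sum_erase _ _ hv, add_comm, Polynomial.leadingCoeff_add_of_degree_lt,
    (hlc v hv).1]
  refine lt_of_le_of_lt (Polynomial.degree_sum_le _ _) ?_
  rw [Finset.sup_lt_iff (bot_lt_iff_ne_bot.2 fun h => hne (Polynomial.degree_eq_bot.1 h))]
  intro w hw
  obtain ⟨hwv, hwf⟩ := Finset.mem_erase.1 hw
  refine Polynomial.degree_lt_degree ?_
  rw [(hlc w hwf).2, (hlc v hv).2]
  exact lt_of_le_of_ne (hmax w hwf) fun h => hwv (hinj hwf hv h)

/-- Integral extensions do not lower the dimension. -/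
theorem ringKrullDim_le_of_isIntegral {A B : Type*} [CommRing A] [CommRing B] [Algebra A B]
    [Algebra.IsIntegral A B] (hinj : Function.Injective (algebraMap A B)) :
    ringKrullDim A ≤ ringKrullDim B := by
  have key : ∀ (m : ℕ) (p : PrimeSpectrum A), (m : ℕ∞) ≤ Order.height p →
      ∃ Q : PrimeSpectrum B, Q.asIdeal.comap (algebraMap A B) = p.asIdeal ∧
        (m : ℕ∞) ≤ Order.height Q := by
    intro m
    induction m with
    | zero =>
      intro p _
      obtain ⟨Q, -, hQ, hQp⟩ := Ideal.exists_ideal_over_prime_of_isIntegral p.asIdeal (⊥ : Ideal B)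
        (by rw [← RingHom.ker, (RingHom.injective_iff_ker_eq_bot _).mp hinj]; exact bot_le)
      exact ⟨⟨Q, hQ⟩, hQp, zero_le⟩
    | succ m ih =>
      intro p hp
      obtain ⟨q, hqp, hq⟩ : ∃ q < p, (m : ℕ∞) ≤ Order.height q := by
        obtain ⟨s, hlast, hlen⟩ := Order.exists_series_of_le_height p hp
        refine ⟨s.eraseLast.last, ?_, ?_⟩
        · rw [← hlast]
          exact s.eraseLast_last_rel_last (by omega)
        · have h := Order.length_le_height_last (p := s.eraseLast)
          rw [RelSeries.eraseLast_length, hlen] at h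
          simpa using h
      obtain ⟨Q', hQ', hQn⟩ := ih q hq
      haveI := Q'.isPrime
      obtain ⟨Q, hle, hQ, hQp⟩ := Ideal.exists_ideal_over_prime_of_isIntegral p.asIdeal Q'.asIdeal
        (hQ'.le.trans hqp.le)
      refine ⟨⟨Q, hQ⟩, hQp, ?_⟩
      have hlt : Q' < ⟨Q, hQ⟩ := lt_of_le_of_ne hle fun h => hqp.ne (PrimeSpectrum.ext (by
        rw [← hQ', ← hQp, h]))
      calc ((m + 1 : ℕ) : ℕ∞) ≤ Order.height Q' + 1 := by push_cast; gcongr
        _ ≤ _ := Order.height_add_one_le hlt
  rcases isEmpty_or_nonempty (PrimeSpectrum A) with h | h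
  · rw [ringKrullDim, Order.krullDim_eq_bot]; exact bot_le
  rw [ringKrullDim, Order.krullDim_eq_iSup_height_of_nonempty]
  obtain ⟨p0⟩ := h
  haveI : Nonempty (PrimeSpectrum B) := ⟨(key 0 p0 zero_le).choose⟩
  rw [ringKrullDim, Order.krullDim_eq_iSup_height_of_nonempty]
  refine WithBot.coe_le_coe.mpr (iSup_le fun p => ENat.forall_natCast_le_iff_le.mp fun m hm => ?_)
  obtain ⟨Q, -, hQn⟩ := key m p hm
  exact hQn.trans (le_iSup (fun Q => Order.height Q) Q)

/-- An ideal containing a polynomial monic in the first variable, with small quotient, contains a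
nonzero polynomial free of the first variable. -/
theorem exists_elim (I : Ideal (MvPolynomial (Fin (n + 1)) k))
    (hdim : ringKrullDim (MvPolynomial (Fin (n + 1)) k ⧸ I) + 2 ≤
      ((n + 1 : ℕ) : WithBot ℕ∞))
    (g : MvPolynomial (Fin (n + 1)) k) (hg : g ∈ I) (c : k) (hc : c ≠ 0)
    (hlead : (finSuccEquiv k n g).leadingCoeff = C c) :
    ∃ D : MvPolynomial (Fin n) k, D ≠ 0 ∧ rename Fin.succ D ∈ I := by
  by_contra h
  push Not at h
  let J := I.map (finSuccEquiv k n)
  let e : (MvPolynomial (Fin (n + 1)) k ⧸ I) ≃+* (Polynomial (MvPolynomial (Fin n) k) ⧸ J) :=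
    Ideal.quotientEquiv I J (finSuccEquiv k n).toRingEquiv rfl
  have hint : RingHom.IsIntegral (algebraMap (MvPolynomial (Fin n) k)
      (Polynomial (MvPolynomial (Fin n) k) ⧸ J)) := by
    have hu : IsUnit (finSuccEquiv k n g).leadingCoeff := by
      rw [hlead]
      exact (Ne.isUnit hc).map C
    refine (Polynomial.monic_of_isUnit_leadingCoeff_inv_smul hu).quotient_isIntegral (I := J) ?_
    rw [Units.smul_def, Polynomial.smul_eq_C_mul]
    exact J.mul_mem_left _ (Ideal.mem_map_of_mem _ hg)
  let φ : MvPolynomial (Fin n) k →+* (Polynomial (MvPolynomial (Fin n) k) ⧸ J) := algebraMap _ _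
  have hinj : Function.Injective φ := by
    rw [injective_iff_map_eq_zero]
    intro D hD
    by_contra hD0
    refine h D hD0 ?_
    change Ideal.Quotient.mk J (Polynomial.C D) = 0 at hD
    rw [Ideal.Quotient.eq_zero_iff_mem] at hD
    have h2 : finSuccEquiv k n (rename Fin.succ D) = Polynomial.C D := by
      clear hD hD0
      induction D using MvPolynomial.induction_on with
      | C a => simp [finSuccEquiv_apply]
      | add p q hp hq => simp [hp, hq]
      | mul_X p i hp => simp [hp, finSuccEquiv_X_succ]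
    obtain ⟨x, hx, hxe⟩ := (Ideal.mem_map_iff_of_surjective _ (finSuccEquiv k n).surjective).1 hD
    rw [← (finSuccEquiv k n).injective (a₁ := x) (a₂ := rename Fin.succ D) (by rw [h2]; exact hxe)]
    exact hx
  haveI : Algebra.IsIntegral (MvPolynomial (Fin n) k)
      (Polynomial (MvPolynomial (Fin n) k) ⧸ J) := ⟨hint⟩
  have h1 := ringKrullDim_le_of_isIntegral (A := MvPolynomial (Fin n) k)
    (B := Polynomial (MvPolynomial (Fin n) k) ⧸ J) hinj
  rw [MvPolynomial.ringKrullDim_of_isNoetherianRing, ringKrullDim_eq_zero_of_field, zero_add,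
    Nat.card_eq_fintype_card, Fintype.card_fin, ← ringKrullDim_eq_of_ringEquiv e] at h1
  have h2 := le_trans (add_le_add h1 le_rfl) hdim
  rw [show (2 : WithBot ℕ∞) = ((2 : ℕ) : WithBot ℕ∞) from rfl, ← Nat.cast_add, Nat.cast_le] at h2
  omega

end Groth.Agent.StrongApprox
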