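import Groth.Agent.StrongApprox.Basic
import Groth.Agent.StrongApprox.Change
import Mathlib.LinearAlgebra.Lagrange
import Mathlib.Algebra.MvPolynomial.Funext
import Mathlib.NumberTheory.NumberField.Completion.FinitePlace

/-!
# Strong approximation for the complement of a closed subset of codimension two in affine space
-/

noncomputable section

open NumberField IsDedekindDomain IsDedekindDomain.HeightOneSpectrum MvPolynomial

universe u

namespace Groth.Agent.StrongApprox

variable {k : Type u} [Field k] [NumberField k]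

local notation "OK" => NumberField.RingOfIntegers k
local notation "Plc" => HeightOneSpectrum (NumberField.RingOfIntegers k)

/-- Coefficients at which a polynomial fails to be integral. -/
def badCoeff {σ : Type*} (p : MvPolynomial σ k) : Set Plc :=
  ⋃ d ∈ (p.support : Set (σ →₀ ℕ)), Support OK (coeff d p)

theorem badCoeff_finite {σ : Type*} (p : MvPolynomial σ k) : (badCoeff p).Finite :=
  p.support.finite_toSet.biUnion fun d _ => Support.finite OK (coeff d p)

theorem valuation_aeval_le {σ : Type*} (v : Plc) (p : MvPolynomial σ k) (hp : v ∉ badCoeff p)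
    (x : σ → k) (hx : ∀ i, v.valuation k (x i) ≤ 1) : v.valuation k (eval x p) ≤ 1 := by
  rw [eval_eq]
  refine Valuation.map_sum_le _ fun d hd => ?_
  rw [map_mul, map_prod]
  refine mul_le_one' (le_of_not_gt fun h => hp (Set.mem_biUnion hd h)) ?_
  refine Finset.prod_le_one' fun i _ => ?_
  rw [map_pow]
  exact pow_le_one' (hx i) _

theorem notMem_badCoeff_map (v : Plc) {σ : Type*} (p : MvPolynomial σ OK) :
    v ∉ badCoeff (map (algebraMap OK k) p) := by
  intro h
  obtain ⟨d, _, h2⟩ := Set.mem_iUnion₂.1 h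
  simp only [Support, Set.mem_setOf_eq, coeff_map] at h2
  exact not_lt.2 (valuation_le_one v _) h2

/-- If a combination of integral values is a unit then one of them is a unit. -/
theorem exists_unit_of_comb (v : Plc) {m : ℕ} (a b : Fin m → k)
    (ha : ∀ j, v.valuation k (a j) ≤ 1) (hb : ∀ j, v.valuation k (b j) ≤ 1)
    (h : v.valuation k (∑ j, a j * b j) = 1) : ∃ j, v.valuation k (b j) = 1 := by
  by_contra h'
  push Not at h'
  refine h.not_lt ?_
  refine Valuation.map_sum_lt _ one_ne_zero fun j _ => ?_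
  rw [map_mul]
  exact mul_lt_one_of_nonneg_of_lt_one_right (ha j) zero_le (lt_of_le_of_ne (hb j) (h' j))

/-- A polynomial of degree `d` with integral coefficients and unit leading coefficient takes a unit
value when the residue field is larger than `d`. -/
theorem exists_unit_value (v : Plc) (G : Polynomial k) (hG : G ≠ 0)
    (hlc : v.valuation k G.leadingCoeff = 1) (hq : G.natDegree < Ideal.absNorm v.asIdeal)
    (hint : ∀ a : k, v.valuation k a ≤ 1 → v.valuation k (G.eval a) ≤ 1) :
    ∃ a : k, v.valuation k a ≤ 1 ∧ v.valuation k (G.eval a) = 1 := by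
  classical
  haveI : Finite (OK ⧸ v.asIdeal) := (Ideal.absNorm_ne_zero_iff _).1
    (fun h => v.ne_bot (Ideal.absNorm_eq_zero_iff.1 h))
  haveI : Fintype (OK ⧸ v.asIdeal) := Fintype.ofFinite _
  have hcard : G.natDegree + 1 ≤ (Finset.univ : Finset (OK ⧸ v.asIdeal)).card := by
    rw [Finset.card_univ, ← Nat.card_eq_fintype_card]
    simpa [Ideal.absNorm_apply, Submodule.cardQuot_apply] using hq
  obtain ⟨s, -, hs⟩ := Finset.exists_subset_card_eq hcard
  let lift : (OK ⧸ v.asIdeal) → k := fun x => algebraMap OK k (Quotient.out x)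
  have hdiff : ∀ x y, x ≠ y → v.valuation k (lift x - lift y) = 1 := fun x y hxy => by
    rw [← map_sub, valuation_eq_one_iff_notMem]
    intro h
    apply hxy
    rw [← Ideal.Quotient.mk_out x, ← Ideal.Quotient.mk_out y]
    exact Ideal.Quotient.eq.2 h
  have hinj : Set.InjOn lift s := fun x _ y _ h => by
    by_contra hne
    simpa [h] using hdiff x y hne
  by_contra hall
  push Not at hall
  have hsum := Lagrange.leadingCoeff_eq_sum hinj (P := G) (by
    rw [hs, Polynomial.degree_eq_natDegree hG]; rfl)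
  refine hlc.not_lt ?_
  rw [hsum]
  refine Valuation.map_sum_lt _ one_ne_zero fun x hx => ?_
  have hden : v.valuation k (∏ j ∈ s.erase x, (lift x - lift j)) = 1 := by
    rw [map_prod]
    exact Finset.prod_eq_one fun j hj => hdiff x j (Finset.ne_of_mem_erase hj).symm
  rw [map_div₀, hden, div_one]
  exact lt_of_le_of_ne (hint _ (valuation_le_one v _)) (hall _ (valuation_le_one v _))

theorem valuation_eval_sub_lt (v : Plc) (G : Polynomial k)
    (hint : ∀ i, v.valuation k (G.coeff i) ≤ 1) (a x : k) (ha : v.valuation k a ≤ 1)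
    (hx : v.valuation k (x - a) < 1) : v.valuation k (G.eval x - G.eval a) < 1 := by
  have hx1 : v.valuation k x ≤ 1 := by
    have := Valuation.map_add_le _ hx.le ha
    rwa [sub_add_cancel] at this
  rw [Polynomial.eval_eq_sum_range, Polynomial.eval_eq_sum_range, ← Finset.sum_sub_distrib]
  refine Valuation.map_sum_lt _ one_ne_zero fun i _ => ?_
  rw [← mul_sub, map_mul]
  refine mul_lt_one_of_nonneg_of_lt_one_right (hint i) zero_le ?_
  rw [← (Commute.all x a).mul_geom_sum₂, map_mul, mul_comm]
  refine mul_lt_one_of_nonneg_of_lt_one_right ?_ zero_le hx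
  refine Valuation.map_sum_le _ fun l _ => ?_
  rw [map_mul, map_pow, map_pow]
  exact mul_le_one' (pow_le_one' hx1 _) (pow_le_one' ha _)

theorem isOpen_lt_one (v : Plc) : IsOpen {z : v.adicCompletion k | Valued.v z < 1} := by
  rw [isOpen_iff_mem_nhds]
  intro z hz
  rw [Valued.mem_nhds]
  refine ⟨1, fun y hy => ?_⟩
  simp only [Set.mem_setOf_eq, Units.val_one, Valuation.restrict_lt_one_iff] at hy hz ⊢
  have := Valuation.map_add_lt _ hy hz
  rwa [sub_add_cancel] at this

theorem coeff_notMem {n m : ℕ} (v : Plc) {A : Fin m → MvPolynomial (Fin (n + 1)) k}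
    {f : Fin m → MvPolynomial (Fin (n + 1)) OK} {g : MvPolynomial (Fin (n + 1)) k}
    (hA : ∑ j, A j * map (algebraMap OK k) (f j) = g) (hAb : ∀ j, v ∉ badCoeff (A j)) (i : ℕ) :
    v ∉ badCoeff ((finSuccEquiv k n g).coeff i) := by
  intro h
  obtain ⟨d, _, h2⟩ := Set.mem_iUnion₂.1 h
  simp only [Support, Set.mem_setOf_eq, finSuccEquiv_coeff_coeff, ← hA, coeff_sum] at h2
  refine not_lt.2 (Valuation.map_sum_le _ fun j _ => ?_) h2
  rw [coeff_mul]
  refine Valuation.map_sum_le _ fun x _ => ?_
  rw [map_mul]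
  refine mul_le_one' ?_ ?_
  · by_cases hx : coeff x.1 (A j) = 0
    · simp [hx]
    · exact le_of_not_gt fun h' => hAb j (Set.mem_biUnion (mem_support_iff.2 hx) h')
  · rw [coeff_map]
    exact valuation_le_one v _

/-- The local condition: integral coordinates and some value a unit. -/
def good (v : Plc) {N m : ℕ} (f : Fin m → MvPolynomial (Fin N) OK) :
    Set (Fin N → v.adicCompletion k) :=
  {Q | (∀ i, Q i ∈ v.adicCompletionIntegers k) ∧
    ∃ j, Valued.v (aeval Q (map (algebraMap OK k) (f j))) = 1}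

theorem isOpen_good (v : Plc) {N m : ℕ} (f : Fin m → MvPolynomial (Fin N) OK) :
    IsOpen (good v f) := by
  have h1 : IsOpen {Q : Fin N → v.adicCompletion k | ∀ i, Q i ∈ v.adicCompletionIntegers k} := by
    simp only [Set.setOf_forall]
    exact isOpen_iInter_of_finite fun i =>
      (Valued.isOpen_valuationSubring _).preimage (continuous_apply i)
  have h2 : IsOpen {Q : Fin N → v.adicCompletion k |
      ∃ j, Valued.v (aeval Q (map (algebraMap OK k) (f j))) = 1} := by
    simp only [Set.setOf_exists]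
    refine isOpen_iUnion fun j => ?_
    have hs : IsOpen {x : v.adicCompletion k | Valued.v x = 1} := by
      rw [isOpen_iff_mem_nhds]
      intro x hx
      have hx0 : Valued.v.restrict x ≠ 0 := by
        simp only [ne_eq, map_eq_zero]
        rintro rfl
        simp at hx
      refine Filter.mem_of_superset ((Valued.isOpen_sphere _ hx0).mem_nhds rfl) fun y hy => ?_
      simp only [Set.mem_setOf_eq] at hy hx ⊢
      rw [← hx, ← Valuation.embedding_restrict, ← Valuation.embedding_restrict (v := Valued.v) x, hy]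
    refine hs.preimage (f := fun Q => aeval Q (map (algebraMap OK k) (f j))) ?_
    simp only [aeval_def, eval₂_eq]
    fun_prop
  exact h1.inter h2

theorem mem_good_iff (v : Plc) {N m : ℕ} (f : Fin m → MvPolynomial (Fin N) OK) (P : Fin N → k) :
    (fun i => algebraMap k (v.adicCompletion k) (P i)) ∈ good v f ↔
      (∀ i, v.valuation k (P i) ≤ 1) ∧
        ∃ j, v.valuation k (aeval P (map (algebraMap OK k) (f j))) = 1 := by
  have hv : ∀ x : k, Valued.v (algebraMap k (v.adicCompletion k) x) = v.valuation k x :=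
    fun x => adicCompletion.valued_coe k v x
  refine and_congr (forall_congr' fun i => ?_) (exists_congr fun j => ?_)
  · rw [mem_adicCompletionIntegers, hv]
  · rw [show (aeval fun i => algebraMap k (v.adicCompletion k) (P i))
      (map (algebraMap OK k) (f j)) = algebraMap k (v.adicCompletion k)
        (aeval P (map (algebraMap OK k) (f j))) from aeval_algebraMap_apply _ P _, hv]

/-- The case in which the ideal contains a polynomial monic in the first variable and a nonzero
polynomial free of it. -/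
theorem exists_point_aux {n m : ℕ} (f : Fin m → MvPolynomial (Fin (n + 1)) OK)
    (g : MvPolynomial (Fin (n + 1)) k)
    (hg : g ∈ Ideal.span (Set.range fun j => map (algebraMap OK k) (f j)))
    (c : k) (hc : c ≠ 0) (hlead : (finSuccEquiv k n g).leadingCoeff = C c)
    (D : MvPolynomial (Fin n) k) (hD0 : D ≠ 0)
    (hD : rename Fin.succ D ∈ Ideal.span (Set.range fun j => map (algebraMap OK k) (f j)))
    (v₀ : Plc) (Sf : Finset Plc) (hv₀ : v₀ ∈ Sf)
    (Nf : (v : Plc) → Set (Fin (n + 1) → v.adicCompletion k))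
    (hNf : ∀ v ∈ Sf, v ≠ v₀ → IsOpen (Nf v) ∧ (Nf v).Nonempty)
    (V : Set ((w : InfinitePlace k) → Fin (n + 1) → w.Completion)) (hV : IsOpen V)
    (hVne : V.Nonempty)
    (T : Finset Plc) (hT : Disjoint T Sf)
    (W : (v : Plc) → Set (Fin (n + 1) → v.adicCompletion k))
    (hW : ∀ v ∈ T, IsOpen (W v) ∧ (W v ∩ good v f).Nonempty)
    (hne : ∀ v : Plc, v ∉ Sf → (good v f).Nonempty) :
    ∃ P : Fin (n + 1) → k,
      (∀ v : Plc, v ∉ Sf → (∀ i, v.valuation k (P i) ≤ 1) ∧
        ∃ j, v.valuation k (aeval P (map (algebraMap OK k) (f j))) = 1) ∧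
      (∀ v ∈ Sf, v ≠ v₀ → (fun i => algebraMap k (v.adicCompletion k) (P i)) ∈ Nf v) ∧
      (fun (w : InfinitePlace k) i => algebraMap k w.Completion (P i)) ∈ V ∧
      (∀ v ∈ T, (fun i => algebraMap k (v.adicCompletion k) (P i)) ∈ W v) := by
  classical
  obtain ⟨A, hA⟩ := Ideal.mem_span_range_iff_exists_fun.1 hg
  obtain ⟨B, hB⟩ := Ideal.mem_span_range_iff_exists_fun.1 hD
  set d := (finSuccEquiv k n g).natDegree with hd
  have hfinN : {v : Plc | Ideal.absNorm v.asIdeal ≤ d}.Finite :=
    (Ideal.finite_setOfPred_absNorm_le d).preimage fun a _ b _ h => HeightOneSpectrum.ext h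
  let bad : Set Plc := ((⋃ j, badCoeff (A j)) ∪ (⋃ j, badCoeff (B j))) ∪
    (Support OK c ∪ Support OK c⁻¹) ∪ {v | Ideal.absNorm v.asIdeal ≤ d}
  have hbad : bad.Finite :=
    ((((Set.finite_iUnion fun j => badCoeff_finite (A j)).union
      (Set.finite_iUnion fun j => badCoeff_finite (B j))).union
      ((Support.finite OK c).union (Support.finite OK c⁻¹))).union hfinN)
  let T' : Finset Plc := T ∪ (hbad.toFinset \ Sf)
  have hT' : ∀ v ∈ T', v ∉ Sf := fun v hv => by
    rcases Finset.mem_union.1 hv with h | h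
    · exact Finset.disjoint_left.1 hT h
    · exact (Finset.mem_sdiff.1 h).2
  let F : Finset Plc := Sf.erase v₀ ∪ T'
  have hv₀F : v₀ ∉ F := fun h => by
    rcases Finset.mem_union.1 h with h | h
    · exact (Finset.mem_erase.1 h).1 rfl
    · exact hT' _ h hv₀
  let O : (v : Plc) → Set (Fin (n + 1) → v.adicCompletion k) := fun v =>
    if v ∈ Sf then Nf v else (if v ∈ T then W v ∩ good v f else good v f)
  have hO : ∀ v ∈ F, IsOpen (O v) ∧ (O v).Nonempty := fun v hv => by
    rcases Finset.mem_union.1 hv with h | h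
    · obtain ⟨h1, h2⟩ := Finset.mem_erase.1 h
      simp only [O, if_pos h2]
      exact hNf v h2 h1
    · simp only [O, if_neg (hT' v h)]
      split_ifs with hvT
      · exact ⟨(hW v hvT).1.inter (isOpen_good v f), (hW v hvT).2⟩
      · exact ⟨isOpen_good v f, hne v (hT' v h)⟩
  -- boxes
  choose! Q hQ using fun v hv => (hO v hv).2
  choose! U hU hUsub using fun v hv => isOpen_pi_iff'.1 (hO v hv).1 (Q v) (hQ v hv)
  obtain ⟨Z, hZ⟩ := hVne
  obtain ⟨Uw, hUw, hUwsub⟩ := isOpen_pi_iff'.1 hV Z hZ
  choose R hR hRsub using fun w => isOpen_pi_iff'.1 (hUw w).1 (Z w) (hUw w).2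
  let V' : Fin (n + 1) → Set ((w : InfinitePlace k) → w.Completion) := fun i =>
    Set.univ.pi fun w => R w i
  have hV' : ∀ i, IsOpen (V' i) ∧ (V' i).Nonempty := fun i =>
    ⟨isOpen_set_pi Set.finite_univ fun w _ => (hR w i).1,
      ⟨fun w => Z w i, fun w _ => (hR w i).2⟩⟩
  -- the last coordinates
  let S : Fin n → Set k := fun i => {x : k | (∀ v ∈ F, algebraMap k (v.adicCompletion k) x ∈
      U v i.succ) ∧ (fun w : InfinitePlace k => algebraMap k w.Completion x) ∈ V' i.succ ∧
      ∀ v : Plc, v ∉ F → v ≠ v₀ → v.valuation k x ≤ 1}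
  have hS : ∀ i, (S i).Infinite := fun i => strong_approx_infinite v₀ F hv₀F (fun v => U v i.succ)
    (fun v hv => ⟨(hU v hv i.succ).1, _, (hU v hv i.succ).2⟩) _ (hV' _).1 (hV' _).2
  obtain ⟨y, hy, hyD⟩ : ∃ y : Fin n → k, (∀ i, y i ∈ S i) ∧ eval y D ≠ 0 := by
    by_contra h
    push Not at h
    exact hD0 (MvPolynomial.funext_set S hS fun x hx => by
      rw [map_zero]; exact h x fun i => hx i (Set.mem_univ i))
  -- the new bad places
  let Bset : Finset Plc := ((Support.finite OK (eval y D)).union
    (Support.finite OK (eval y D)⁻¹)).toFinset \ (F ∪ Sf)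
  let G : Polynomial k := Polynomial.map (eval y) (finSuccEquiv k n g)
  have hGlc : G.leadingCoeff = c ∧ G.natDegree = d ∧ G ≠ 0 := by
    have h1 : eval y (finSuccEquiv k n g).leadingCoeff ≠ 0 := by simp [hlead, hc]
    refine ⟨?_, Polynomial.natDegree_map_of_leadingCoeff_ne_zero _ h1, fun h => h1 ?_⟩
    · rw [Polynomial.leadingCoeff_map_of_leadingCoeff_ne_zero _ h1, hlead, eval_C]
    · rw [← Polynomial.leadingCoeff_map_of_leadingCoeff_ne_zero _ h1]
      exact (congrArg Polynomial.leadingCoeff h).trans Polynomial.leadingCoeff_zero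
  have hnotbad : ∀ v, v ∉ F → v ∉ Sf → v ∉ bad := fun v hvF hvS hvb =>
    hvF (Finset.mem_union_right _ (Finset.mem_union_right _
      (Finset.mem_sdiff.2 ⟨hbad.mem_toFinset.2 hvb, hvS⟩)))
  have hGeval : ∀ x : k, G.eval x = eval (Fin.cons x y) g := fun x =>
    (eval_eq_eval_mv_eval' y x g).symm
  have hcons : ∀ v, v ∉ F → v ∉ Sf → ∀ x : k, v.valuation k x ≤ 1 →
      ∀ i, v.valuation k ((Fin.cons x y : Fin (n + 1) → k) i) ≤ 1 := fun v hvF hvS x hx i => by
    rcases Fin.eq_zero_or_eq_succ i with rfl | ⟨j, rfl⟩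
    · simpa using hx
    · simpa using (hy j).2.2 v hvF fun h => hvS (h ▸ hv₀)
  have hcomb : ∀ v, v ∉ F → v ∉ Sf → ∀ (E : Fin m → MvPolynomial (Fin (n + 1)) k)
      (e : MvPolynomial (Fin (n + 1)) k), (∑ j, E j * map (algebraMap OK k) (f j) = e) →
      (∀ j, v ∉ badCoeff (E j)) → ∀ x : k, v.valuation k x ≤ 1 →
      v.valuation k (eval (Fin.cons x y) e) ≤ 1 ∧
        (v.valuation k (eval (Fin.cons x y) e) = 1 →
          ∃ j, v.valuation k (aeval (Fin.cons x y : Fin (n + 1) → k)
            (map (algebraMap OK k) (f j))) = 1) := by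
    intro v hvF hvS E e hE hEb x hx
    have h1 : ∀ j, v.valuation k (eval (Fin.cons x y) (E j)) ≤ 1 := fun j =>
      valuation_aeval_le v _ (hEb j) _ (hcons v hvF hvS x hx)
    have h2 : ∀ j, v.valuation k (eval (Fin.cons x y) (map (algebraMap OK k) (f j))) ≤ 1 :=
      fun j => valuation_aeval_le v _ (notMem_badCoeff_map v _) _ (hcons v hvF hvS x hx)
    have h3 : eval (Fin.cons x y) e = ∑ j, eval (Fin.cons x y) (E j) *
        eval (Fin.cons x y) (map (algebraMap OK k) (f j)) := by
      rw [← hE, map_sum]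
      simp only [map_mul]
    refine ⟨?_, fun h => ?_⟩
    · rw [h3]
      exact Valuation.map_sum_le _ fun j _ => by rw [map_mul]; exact mul_le_one' (h1 j) (h2 j)
    · rw [h3] at h
      obtain ⟨j, hj⟩ := exists_unit_of_comb v _ _ h1 h2 h
      exact ⟨j, hj⟩
  have hAb : ∀ v, v ∉ bad → ∀ j, v ∉ badCoeff (A j) := fun v hv j h =>
    hv (Or.inl (Or.inl (Or.inl (Set.mem_iUnion.2 ⟨j, h⟩))))
  have hBb : ∀ v, v ∉ bad → ∀ j, v ∉ badCoeff (B j) := fun v hv j h =>
    hv (Or.inl (Or.inl (Or.inr (Set.mem_iUnion.2 ⟨j, h⟩))))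
  have hB' : ∀ v ∈ Bset, v ∉ F ∧ v ∉ Sf := fun v hv => by
    simpa only [Bset, Finset.mem_sdiff, Finset.mem_union, not_or] using (Finset.mem_sdiff.1 hv).2
  have hex : ∀ v ∈ Bset, ∃ a : k, v.valuation k a ≤ 1 ∧ v.valuation k (G.eval a) = 1 := fun v hv => by
    obtain ⟨hvF, hvS⟩ := hB' v hv
    have hb := hnotbad v hvF hvS
    refine exists_unit_value v G hGlc.2.2 ?_ ?_ fun a ha => ?_
    · rw [hGlc.1]
      refine le_antisymm (le_of_not_gt fun h => hb (Or.inl (Or.inr (Or.inl h))))
        (le_of_not_gt fun h => hb (Or.inl (Or.inr (Or.inr ?_))))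
      rw [Support, Set.mem_setOf_eq, map_inv₀]
      exact (one_lt_inv₀ (zero_lt_iff.2 ((Valuation.ne_zero_iff _).2 hc))).2 h
    · rw [hGlc.2.1]
      exact not_le.1 fun h => hb (Or.inr h)
    · rw [hGeval]
      exact (hcomb v hvF hvS A g hA (hAb v hb) a ha).1
  choose! a ha hGa using hex
  let U0 : (v : Plc) → Set (v.adicCompletion k) := fun v =>
    if v ∈ F then U v 0 else {z | Valued.v (z - algebraMap k (v.adicCompletion k) (a v)) < 1}
  obtain ⟨x, hxU, hxV, hxint⟩ := strong_approx v₀ (F ∪ Bset)
    (by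
      rw [Finset.mem_union, not_or]
      exact ⟨hv₀F, fun h => (hB' _ h).2 hv₀⟩) U0
    (fun v hv => by
      by_cases hvF : v ∈ F
      · simp only [U0, if_pos hvF]
        exact ⟨(hU v hvF 0).1, _, (hU v hvF 0).2⟩
      · simp only [U0, if_neg hvF]
        refine ⟨?_, algebraMap k _ (a v), by simp⟩
        exact (isOpen_lt_one v).preimage (continuous_id.sub continuous_const))
    _ (hV' 0).1 (hV' 0).2
  have hPF : ∀ v ∈ F,
      (fun i => algebraMap k (v.adicCompletion k) ((Fin.cons x y : Fin (n + 1) → k) i)) ∈ O v := by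
    intro v hv
    refine hUsub v hv fun i _ => ?_
    rcases Fin.eq_zero_or_eq_succ i with rfl | ⟨j, rfl⟩
    · have := hxU v (Finset.mem_union_left _ hv)
      simp only [U0, if_pos hv] at this
      simpa using this
    · simpa using (hy j).1 v hv
  refine ⟨Fin.cons x y, fun v hvS => ?_, fun v hv hv0 => ?_, ?_, fun v hv => ?_⟩
  · by_cases hvF : v ∈ F
    · rw [← mem_good_iff]
      have h := hPF v hvF
      simp only [O, if_neg hvS] at h
      split_ifs at h with hvT
      · exact h.2
      · exact h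
    · have hb := hnotbad v hvF hvS
      have hv0 : v ≠ v₀ := fun h => hvS (h ▸ hv₀)
      by_cases hvB : v ∈ Bset
      · have hxa : v.valuation k (x - a v) < 1 := by
          have := hxU v (Finset.mem_union_right _ hvB)
          simp only [U0, if_neg hvF, Set.mem_setOf_eq, ← map_sub] at this
          rwa [show Valued.v (algebraMap k (v.adicCompletion k) (x - a v)) =
            v.valuation k (x - a v) from adicCompletion.valued_coe k v _] at this
        have hx1 : v.valuation k x ≤ 1 := by
          have := Valuation.map_add_le _ hxa.le (ha v hvB)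
          rwa [sub_add_cancel] at this
        refine ⟨hcons v hvF hvS x hx1, (hcomb v hvF hvS A g hA (hAb v hb) x hx1).2 ?_⟩
        have hcoef : ∀ i, v.valuation k (G.coeff i) ≤ 1 := fun i => by
          rw [Polynomial.coeff_map]
          refine valuation_aeval_le v _ ?_ _ fun j => (hy j).2.2 v hvF hv0
          exact coeff_notMem v hA (hAb v hb) i
        have hlt := valuation_eval_sub_lt v G hcoef (a v) x (ha v hvB) hxa
        rw [← hGeval, show G.eval x = (G.eval x - G.eval (a v)) + G.eval (a v) by ring,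
          Valuation.map_add_eq_of_lt_right _ (by rwa [hGa v hvB]), hGa v hvB]
      · have hx1 : v.valuation k x ≤ 1 :=
          hxint v (by simp [hvF, hvB]) hv0
        refine ⟨hcons v hvF hvS x hx1, (hcomb v hvF hvS B _ hB (hBb v hb) x hx1).2 ?_⟩
        have hDy : eval (Fin.cons x y) (rename Fin.succ D) = eval y D := by
          rw [eval_rename]
          congr 2
        rw [hDy]
        have hns : v ∉ (((Support.finite OK (eval y D)).union
            (Support.finite OK (eval y D)⁻¹)).toFinset) := fun h => hvB (Finset.mem_sdiff.2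
              ⟨h, by simp [hvF, hvS]⟩)
        rw [Set.Finite.mem_toFinset, Set.mem_union, not_or] at hns
        refine le_antisymm (le_of_not_gt hns.1) (le_of_not_gt fun h => hns.2 ?_)
        rw [Support, Set.mem_setOf_eq, map_inv₀]
        exact (one_lt_inv₀ (zero_lt_iff.2 ((Valuation.ne_zero_iff _).2 hyD))).2 h
  · have h := hPF v (Finset.mem_union_left _ (Finset.mem_erase.2 ⟨hv0, hv⟩))
    simpa only [O, if_pos hv] using h
  · refine hUwsub fun w _ => hRsub w fun i _ => ?_
    rcases Fin.eq_zero_or_eq_succ i with rfl | ⟨j, rfl⟩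
    · simpa using hxV w (Set.mem_univ w)
    · simpa using (hy j).2.1 w (Set.mem_univ w)
  · have hvT' : v ∈ T' := Finset.mem_union_left _ hv
    have h := hPF v (Finset.mem_union_right _ hvT')
    simp only [O, if_neg (hT' v hvT'), if_pos hv] at h
    exact h.1

end Groth.Agent.StrongApprox
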